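import Groth.Agent.GrTail.Main
import Groth.Agent.PnCoh.AmpleVanishing
import Groth.Agent.PnCoh.GeneralTwist
import Groth.Agent.Ega2Proj.TildeFT
import Groth.Agent.Cycles.TwistEmbGen
import Groth.Agent.CohFin.Linear
import Groth.Agent.PnCoh.VanishingClosed
import Groth.Prelude.Def_ega3

/-!
Cohomology of high twists of the sheaf of a finite graded module.
-/

set_option autoImplicit false
set_option linter.style.haveILetI false
universe u

open CategoryTheory AlgebraicGeometry Opposite TopologicalSpace DirectSum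
open Groth.Ega2Proj

namespace Groth.GrTail

variable {R A : Type u} [CommRing R] [CommRing A] [Algebra R A] (𝒜 : ℕ → Submodule R A)
  [GradedAlgebra 𝒜]

theorem mem_pow_of_adjoin {ι : Type*} (g : ι → A) (hg : ∀ i, g i ∈ 𝒜 1)
    (hgen : Algebra.adjoin R (Set.range g) = ⊤) (e : ℕ) (a : A) (ha : a ∈ 𝒜 e) :
    a ∈ Ideal.span (Set.range g) ^ e := by
  have hmon : ∀ x ∈ Submonoid.closure (Set.range g), ∃ k, x ∈ 𝒜 k ∧ x ∈ Ideal.span (Set.range g) ^ k := by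
    intro x hx
    induction hx using Submonoid.closure_induction with
    | mem x hx =>
      obtain ⟨i, rfl⟩ := hx
      exact ⟨1, hg i, by rw [pow_one]; exact Ideal.subset_span ⟨i, rfl⟩⟩
    | one => exact ⟨0, SetLike.GradedOne.one_mem, by simp⟩
    | mul x y _ _ hx hy =>
      obtain ⟨k, h1, h2⟩ := hx
      obtain ⟨l, h3, h4⟩ := hy
      exact ⟨k + l, SetLike.mul_mem_graded h1 h3, by rw [pow_add]; exact Ideal.mul_mem_mul h2 h4⟩
  rw [← DirectSum.decompose_of_mem_same 𝒜 ha]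
  have : a ∈ Submodule.span R (Submonoid.closure (Set.range g) : Set A) := by
    rw [← Algebra.adjoin_eq_span, hgen]
    trivial
  revert this
  generalize a = b
  intro hb
  induction hb using Submodule.span_induction with
  | mem x hx =>
    obtain ⟨k, h1, h2⟩ := hmon x hx
    by_cases h : k = e
    · subst h; rwa [DirectSum.decompose_of_mem_same 𝒜 h1]
    · rw [DirectSum.decompose_of_mem_ne 𝒜 h1 h]; exact Submodule.zero_mem _
  | zero => simp
  | add x y _ _ hx hy => rw [DirectSum.decompose_add]; exact Ideal.add_mem _ hx hy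
  | smul c x _ hx =>
    rw [DirectSum.decompose_smul, DirectSum.smul_apply, Submodule.coe_smul]
    exact Submodule.smul_of_tower_mem _ c hx

variable {M : Type u} [AddCommGroup M] [Module R M] [Module A M] [IsScalarTower R A M]
  (ℳ : ℕ → Submodule R M) [DirectSum.Decomposition ℳ] [SetLike.GradedSMul 𝒜 ℳ]

/-- The canonical section `m / 1` of `M(n)~`. -/
noncomputable def globSec {n : ℕ} (m : ℳ n) : Γ(GrTilde.tilde 𝒜 ℳ (n : ℤ), ⊤) :=
  GrTilde.globalOf 𝒜 ℳ m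

omit [IsScalarTower R A M] [DirectSum.Decomposition ℳ] in
theorem tval_globSec {n : ℕ} (m : ℳ n) (x : ProjectiveSpectrum 𝒜) (hx : x ∈ (⊤ : (Proj 𝒜).Opens)) :
    Tilde.tval (globSec 𝒜 ℳ m) x hx =
      LocalizedModule.mk m.1 (⟨1, fun h => x.isPrime.ne_top ((Ideal.eq_top_iff_one _).mpr h)⟩ :
        x.asHomogeneousIdeal.toIdeal.primeCompl) :=
  rfl

omit [IsScalarTower R A M] [DirectSum.Decomposition ℳ] in
theorem globSec_add {n : ℕ} (a b : ℳ n) :
    globSec 𝒜 ℳ (a + b) = globSec 𝒜 ℳ a + globSec 𝒜 ℳ b := by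
  refine Tilde.tval_ext fun x hx => ?_
  rw [Tilde.tval_add, tval_globSec, tval_globSec, tval_globSec, LocalizedModule.mk_add_mk]
  refine LocalizedModule.mk_eq.mpr ⟨1, ?_⟩
  simp [Submonoid.smul_def]

omit [DirectSum.Decomposition ℳ] in
theorem globSec_smul {n : ℕ} (c : R) (m : ℳ n) :
    globSec 𝒜 ℳ (c • m) =
      (show Γ(Proj 𝒜, ⊤) from Coh.toGlobal (Groth.Cycles.TwistEmb.qS 𝒜) c) • globSec 𝒜 ℳ m := by
  refine Tilde.tval_ext fun x hx => ?_
  have hc : (((show Γ(Proj 𝒜, ⊤) from Coh.toGlobal (Groth.Cycles.TwistEmb.qS 𝒜) c)).1 ⟨x, hx⟩).val =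
      (Localization.mk (algebraMap R A c) 1 : Twist.Loc 𝒜 x) :=
    Groth.Cycles.TwistEmb.toGlobal_qS_val 𝒜 c x
  rw [Tilde.tval_smul, hc, tval_globSec, tval_globSec, LocalizedModule.mk_smul_mk, algebraMap_smul]
  refine LocalizedModule.mk_eq.mpr ⟨1, ?_⟩
  simp [Submonoid.smul_def]

omit [DirectSum.Decomposition ℳ] in
theorem nonempty_linearEquiv {n : ℕ} (hb : Function.Bijective (globSec 𝒜 ℳ (n := n))) :
    Nonempty (Groth.CohFin.HA (Groth.Cycles.TwistEmb.qS 𝒜) (GrTilde.tilde 𝒜 ℳ (n : ℤ)) 0 ≃ₗ[R] ℳ n) := by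
  let E := Groth.CohFin.equivSections (Groth.Cycles.TwistEmb.qS 𝒜) (GrTilde.tilde 𝒜 ℳ (n : ℤ))
  let L : ℳ n →ₗ[R] Groth.CohFin.HA (Groth.Cycles.TwistEmb.qS 𝒜) (GrTilde.tilde 𝒜 ℳ (n : ℤ)) 0 :=
    { toFun := fun m => E.symm (globSec 𝒜 ℳ m)
      map_add' := fun a b => by rw [globSec_add, map_add]
      map_smul' := fun c m => by
        apply E.injective
        rw [Groth.CohFin.equivSections_smul, E.apply_symm_apply, E.apply_symm_apply, RingHom.id_apply,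
          globSec_smul] }
  exact ⟨(LinearEquiv.ofBijective L (E.symm.bijective.comp hb)).symm⟩

theorem exists_cohomology [IsNoetherianRing R] [Module.Finite A M] {s : ℕ} (g : Fin s → A)
    (hg : ∀ i, g i ∈ 𝒜 1) (hgen : Algebra.adjoin R (Set.range g) = ⊤) :
    ∃ N : ℕ, ∀ n : ℕ, N ≤ n →
      Nonempty (Groth.CohFin.HA (Groth.Cycles.TwistEmb.qS 𝒜) (GrTilde.tilde 𝒜 ℳ (n : ℤ)) 0 ≃ₗ[R] ℳ n) ∧
      ∀ q : ℕ, 0 < q → Subsingleton (Coh.HH (Proj 𝒜) (GrTilde.tilde 𝒜 ℳ (n : ℤ)) q) := by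
  classical
  haveI : Algebra.FiniteType R A := ⟨⟨(Set.finite_range g).toFinset, by simp [hgen]⟩⟩
  haveI : IsNoetherianRing A := Algebra.FiniteType.isNoetherianRing R A
  haveI hproper : IsProper (Groth.Cycles.TwistEmb.qS 𝒜) :=
    Groth.Cycles.TwistEmb.isProper_qS g (fun _ => 1) (fun _ => one_pos) hg hgen
  haveI : CompactSpace (Proj 𝒜) :=
    QuasiCompact.compactSpace_of_compactSpace (Groth.Cycles.TwistEmb.qS 𝒜)
  have hirr : (HomogeneousIdeal.irrelevant 𝒜).toIdeal ≤ Ideal.span (𝒜 1 : Set A) := by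
    refine irrelevant_le_ideal 𝒜 fun e he a ha => ?_
    refine Ideal.span_mono ?_ (Ideal.pow_le_self (by omega) (mem_pow_of_adjoin 𝒜 g hg hgen e a ha))
    rintro _ ⟨i, rfl⟩
    exact hg i
  have hcov : ⨆ f : 𝒜 1, Proj.basicOpen 𝒜 (f : A) = ⊤ := iSup_basicOpen_eq_top_of_span hirr
  haveI := Tilde.isQuasicoherent 𝒜 ℳ 0
  have hF : Coh.IsCoh (GrTilde.tilde 𝒜 ℳ 0) :=
    ⟨inferInstance, isFT_tilde (IsNoetherian.noetherian _) ⟨0, IsNoetherian.noetherian _⟩⟩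
  have hL : CohB1.IsAmple (Twist.twist 𝒜 ((1 : ℕ) : ℤ)) :=
    Groth.PnCoh.isAmple_twist_of_cover one_pos hcov
  rw [Nat.cast_one] at hL
  obtain ⟨d₀, hd⟩ := Groth.PnCoh.exists_subsingleton_of_isAmple (Groth.Cycles.TwistEmb.qS 𝒜) hL
    (GrTilde.tilde 𝒜 ℳ 0) hF
  obtain ⟨n₀, hn₀⟩ := exists_bijective 𝒜 ℳ (Set.finite_range g).toFinset
    (fun x hx => by
      obtain ⟨i, rfl⟩ := (Set.finite_range g).mem_toFinset.mp hx
      exact hg i)
    (fun e a ha => by rw [Set.Finite.coe_toFinset]; exact mem_pow_of_adjoin 𝒜 g hg hgen e a ha)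
  refine ⟨max d₀ n₀, fun n hn => ⟨?_, fun q hq => ?_⟩⟩
  · exact nonempty_linearEquiv 𝒜 ℳ (hn₀ n (le_trans (le_max_right _ _) hn))
  · obtain ⟨e1⟩ := Groth.PnCoh.nonempty_tilde_iso_tensor (ℳ := ℳ) one_pos hcov 0 (n : ℤ)
    obtain ⟨e2⟩ := Groth.PnCoh.nonempty_twist_pow 𝒜 hirr n
    rw [show (0 : ℤ) + (n : ℤ) * ((1 : ℕ) : ℤ) = (n : ℤ) by simp,
      show (n : ℤ) * ((1 : ℕ) : ℤ) = (n : ℤ) by simp] at e1
    have hs := hd n (le_trans (le_max_left _ _) hn) q hq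
    exact Groth.PnCoh.subsingleton_HH_of_iso (Groth.Cycles.TwistEmb.qS 𝒜)
      (e1 ≪≫ PicGrp.tensorModIso (Iso.refl _) e2.symm).symm hs

end Groth.GrTail
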